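import Cfsg.Agent.S4414
import Cfsg.Agent.Lib.BG.T03_1
import Cfsg.Agent.Lib.FH.B
import Cfsg.Agent.Lib.PLocal.ElemAbRep

/-!
# Modules for a Frobenius group without fixed points of the kernel are free over the complement
-/

set_option autoImplicit false

namespace Cfsg.Lib.FH

open Subgroup Module Cfsg.Lib.BG Cfsg.Lib.Amalgam.Wt
open scoped Pointwise TensorProduct

variable {K V S : Type*} [Field K] [AddCommGroup V] [Module K V] [Group S] [Finite S] {P T : Subgroup S}

attribute [local instance] chAct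

theorem chAct_free [P.Normal] (reg : SemiReg P T) {t : S} (ht : t ∈ T) {χ : P →* Kˣ} (e : t • χ = χ) :
    t = 1 ∨ χ = 1 := by
  refine or_iff_not_imp_left.2 fun h1 => MonoidHom.ext fun a => ?_
  obtain ⟨b, hb, e'⟩ := Frobenius.exists_conj_eq_mul (le_normalizer_of_normal (H := P) (mem_top t⁻¹))
    (reg _ (inv_mem ht) (by simpa using h1)) a.2
  have h2 := DFunLike.congr_fun e ⟨b, hb⟩⁻¹
  rw [chAct_apply] at h2
  have h3 : a = ⟨b, hb⟩ * MulAut.conjNormal t⁻¹ (⟨b, hb⟩ : P)⁻¹ := Subtype.ext (by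
    simp only [coe_mul, MulAut.conjNormal_apply, InvMemClass.coe_inv]
    rw [← mul_assoc, ← mul_assoc, e', mul_inv_cancel_right])
  rw [h3, map_mul, h2, ← map_mul, mul_inv_cancel, map_one, MonoidHom.one_apply]

theorem finrank_closed [P.Normal] [IsAlgClosed K] [IsMulCommutative P] [FiniteDimensional K V] (τ : S →* End K V)
    (hP : (Nat.card P : K) ≠ 0) (hfix : fixS τ P = ⊥) (reg : SemiReg P T) :
    finrank K V = Nat.card T * finrank K (fixS τ T) := by
  classical
  have := Fintype.ofFinite P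
  have := Fintype.ofFinite T
  let R : Set (P →* Kˣ) := {χ | (Quotient.mk (MulAction.orbitRel T _) χ).out = χ}
  let Φ : (T → sub τ R) →ₗ[K] V := ∑ t : T, τ t ∘ₗ (sub τ R).subtype ∘ₗ LinearMap.proj t
  have hΦ : ∀ w, Φ w = ∑ t : T, τ t (w t) := fun w => by simp [Φ, LinearMap.sum_apply]
  have inj : Function.Injective Φ := (injective_iff_map_eq_zero Φ).2 fun w hw => funext fun s => by
    by_contra h
    obtain ⟨χ, hχ⟩ := supp_nonempty (P := P) τ hP (v := w s) fun e => h (Subtype.ext e)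
    have h1 : χ ≠ 1 := fun e => hχ ((Submodule.mem_bot K).1 (hfix ▸ fun a ha => by
      rw [show τ a _ = _ from proj_eigen τ χ _ ⟨a, ha⟩, e]; simp))
    have h2 := congrArg (proj τ ((s : S) • χ)) hw
    rw [hΦ, map_sum, map_zero, Finset.sum_eq_single s, proj_smul] at h2
    · refine hχ ?_
      have := congrArg (τ (s : S)⁻¹) h2
      rwa [← End.mul_apply, ← map_mul, inv_mul_cancel, map_one, map_zero] at this
    · intro t _ ht
      rw [← smul_inv_smul (t : S) ((s : S) • χ), proj_smul, smul_smul]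
      by_contra e
      have h3 : (Quotient.mk (MulAction.orbitRel T _) _).out = _ := (w t).2 fun e' => e (by rw [e', map_zero])
      have h4 : (Quotient.mk (MulAction.orbitRel T _) χ).out = χ := (w s).2 hχ
      rw [Quotient.sound (s := MulAction.orbitRel T _) (a := ((t : S)⁻¹ * s) • χ) (b := χ) ⟨t⁻¹ * s, rfl⟩, h4] at h3
      exact ht (Subtype.ext (inv_mul_eq_one.1 ((chAct_free reg (t⁻¹ * s).2 h3.symm).resolve_right h1)))
    · simp
  have sur : Function.Surjective Φ := by
    let _ : CommGroup P := { (inferInstance : Group P) with mul_comm := fun a b => mul_comm' a b }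
    have : NeZero ((Monoid.exponent P : ℕ) : K) := ⟨fun e => hP (by
      obtain ⟨c, hc⟩ : Monoid.exponent P ∣ Nat.card P := Group.exponent_dvd_nat_card
      rw [hc, Nat.cast_mul, e, zero_mul])⟩
    have : Finite (P →* Kˣ) := Nat.finite_of_card_ne_zero
      (CommGroup.card_monoidHom_of_hasEnoughRootsOfUnity P K ▸ Nat.card_pos.ne')
    have := Fintype.ofFinite (P →* Kˣ)
    intro v
    have h1 : (Nat.card P : K) • v = ∑ χ : P →* Kˣ, proj τ χ v := by
      by_contra e
      obtain ⟨ψ, hψ⟩ := supp_nonempty (P := P) τ hP (sub_ne_zero.2 e)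
      refine hψ ?_
      rw [map_sub, map_sum, Finset.sum_eq_single ψ, proj_of_eigen_self τ (proj_eigen τ ψ v), map_smul, sub_self]
      · exact fun χ _ h => proj_of_eigen_ne τ (proj_eigen τ χ v) h.symm
      · simp
    suffices v ∈ LinearMap.range Φ from this
    rw [← Submodule.smul_mem_iff _ hP, h1]
    refine Submodule.sum_mem _ fun χ _ => ?_
    obtain ⟨t, ht⟩ : MulAction.orbitRel T _ (Quotient.mk (MulAction.orbitRel T _) χ).out χ :=
      Quotient.exact (Quotient.out_eq _)
    refine ⟨Pi.single t⁻¹ ⟨τ t (proj τ χ v), fun ψ hψ => ?_⟩, ?_⟩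
    · rw [supp_smul] at hψ
      obtain ⟨φ, h2, rfl⟩ := hψ
      rw [supp_proj τ v h2]
      change (Quotient.mk (MulAction.orbitRel T _) (t • χ)).out = t • χ
      rw [show t • χ = _ from ht, Quotient.out_eq]
    · rw [hΦ, Finset.sum_eq_single t⁻¹, Pi.single_eq_same, ← End.mul_apply, ← map_mul]
      · simp
      · intro s _ hs
        rw [Pi.single_eq_of_ne hs, ZeroMemClass.coe_zero, map_zero]
      · simp
  have act : ∀ (s : T) w, τ s (Φ w) = Φ fun t => w (s⁻¹ * t) := fun s w => by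
    rw [hΦ, hΦ, map_sum]
    exact Fintype.sum_equiv (Equiv.mulLeft s) _ _ fun t => by simp
  let Ψ : sub τ R →ₗ[K] fixS τ T := (Φ ∘ₗ LinearMap.pi fun _ => LinearMap.id).codRestrict _ fun w s hs => act ⟨s, hs⟩ _
  have e := LinearEquiv.ofBijective Ψ ⟨fun a b h => congrFun (inj (congrArg Subtype.val h)) 1, fun ⟨v, hv⟩ => by
    obtain ⟨w, rfl⟩ := sur v
    refine ⟨w 1, Subtype.ext (congrArg Φ (funext fun s => ?_))⟩
    simpa using congrFun (inj ((act s w).symm.trans (hv s s.2))) s⟩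
  rw [← e.finrank_eq, ← (LinearEquiv.ofBijective Φ ⟨inj, sur⟩).finrank_eq, finrank_pi_fintype]
  simp

theorem finrank_normal [P.Normal] [IsMulCommutative P] [FiniteDimensional K V] (ρ : S →* End K V)
    (hP : (Nat.card P : K) ≠ 0) (hfix : fixS ρ P = ⊥) (reg : SemiReg P T) :
    finrank K V = Nat.card T * finrank K (fixS ρ T) := by
  let L := AlgebraicClosure K
  let τ : S →* End L (L ⊗[K] V) := (End.baseChangeHom K L V).toRingHom.toMonoidHom.comp ρ
  have h : ∀ X : Subgroup S, finrank L (fixS τ X) = finrank K (fixS ρ X) := fun X => by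
    have h3 : fixS τ X = LinearMap.range ((fixS ρ X).subtype.baseChange L) := by
      refine le_antisymm (fun v hv => Agent.S4414.mem_range_bc ρ _ v hv) ?_
      rintro _ ⟨u, rfl⟩ s hs
      change (ρ s).baseChange L _ = _
      induction u using TensorProduct.induction_on with
      | zero => simp
      | tmul a e => simp [e.2 s hs]
      | add x y hx hy => simp only [map_add, hx, hy]
    rw [h3, LinearMap.finrank_range_of_inj (f := (fixS ρ X).subtype.baseChange L)
      (Module.Flat.lTensor_preserves_injective_linearMap _ (fixS ρ X).injective_subtype), finrank_baseChange]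
  rw [← h, ← finrank_closed τ (by rw [← map_natCast (algebraMap K L)]; exact (map_ne_zero _).2 hP)
    (Submodule.finrank_eq_zero.1 (by rw [h, hfix, finrank_bot])) reg, finrank_baseChange]

/-- The version where only the image of `P` is commutative. -/
theorem finrank_comm [P.Normal] [FiniteDimensional K V] (ρ : S →* End K V) (hc : ⁅P, P⁆ ≤ ρ.ker)
    (hP : (Nat.card P : K) ≠ 0) (hfix : fixS ρ P = ⊥) (reg : SemiReg P T) :
    finrank K V = Nat.card T * finrank K (fixS ρ T) := by
  let f := QuotientGroup.mk' ⁅P, P⁆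
  have h : ∀ X : Subgroup S, fixS (QuotientGroup.lift _ ρ hc) (X.map f) = fixS ρ X := fun X =>
    Submodule.ext fun v => ⟨fun hv s hs => hv _ ⟨s, hs, rfl⟩, by rintro hv _ ⟨s, hs, rfl⟩; exact hv s hs⟩
  have := Normal.map ‹P.Normal› f (QuotientGroup.mk'_surjective _)
  have : IsMulCommutative (P.map f) := abelian_iff_der.2 (by rw [← map_commutator]; exact QuotientGroup.map_mk'_self _)
  have h1 : Nat.card (T.map f) = Nat.card T := by
    rw [← Core.card_map_mk'_mul ⁅P, P⁆ T, show T ⊓ ⁅P, P⁆ = ⊥ from eq_bot_iff.2 fun x hx => by_contra fun e =>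
      e (reg x hx.1 e ▸ ⟨der_le P hx.2, mem_cent1.2 rfl⟩), card_bot, mul_one]
  rw [← h, ← h1]
  refine finrank_normal _ (fun e => hP ?_) (by rw [h, hfix]) (reg.map f le_normalizer_of_normal)
  obtain ⟨c, hc⟩ := card_map_dvd P f
  rw [hc, Nat.cast_mul, e, zero_mul]

/-- The order formula for an elementary abelian group. -/
theorem card_elem {G : Type*} [Group G] [Finite G] {p : ℕ} [Fact p.Prime] {V A H : Subgroup G}
    (hV : IsElementaryAbelian p V) (h1 : A ≤ 𝐍(V)) (h2 : H ≤ 𝐍(V)) (h3 : H ≤ 𝐍(A)) (reg : SemiReg A H)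
    (hc : ⁅A, A⁆ ≤ 𝐂(V)) (hp : ¬ p ∣ Nat.card A) (h0 : V ⊓ 𝐂(A) = ⊥) :
    Nat.card V = Nat.card ↥(V ⊓ 𝐂(H)) ^ Nat.card H := by
  obtain ⟨c⟩ := PLocal.nonempty_elemAbCoord hV
  let ρ : ↥(A ⊔ H) →* End (ZMod p) (Fin c.n → ZMod p) :=
    (Matrix.toLinAlgEquiv' (R := ZMod p)).toAlgHom.toMonoidHom.comp (c.ρ.comp (inclusion (sup_le h1 h2)))
  have hρ : ∀ g u, c.e (ρ g u) = g * c.e u * (g : G)⁻¹ := fun g u => c.conj (inclusion (sup_le h1 h2) g) u
  have h : ∀ X ≤ A ⊔ H, Nat.card ↥(V ⊓ 𝐂(X)) = p ^ finrank (ZMod p) (fixS ρ (X.subgroupOf _)) := fun X hX => by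
    refine Eq.trans (b := Nat.card (fixS ρ (X.subgroupOf _))) ?_
      ((natCard_eq_pow_finrank (K := ZMod p)).trans (by rw [Nat.card_zmod]))
    symm
    refine Nat.card_eq_of_bijective (fun u => ⟨c.e u, c.mem u, mem_cent.2 fun x hx =>
      mul_inv_eq_iff_eq_mul.1 ((hρ ⟨x, hX hx⟩ u).symm.trans (congrArg c.e (u.2 _ hx)))⟩)
      ⟨fun a b e => Subtype.ext (c.inj (Subtype.ext_iff.1 e)), fun ⟨v, hv, hv'⟩ => ?_⟩
    obtain ⟨u, rfl⟩ := (c.mem_iff v).1 hv
    exact ⟨⟨u, fun x hx => c.inj ((hρ x u).trans (mul_inv_eq_iff_eq_mul.2 (mem_cent.1 hv' _ hx)))⟩, rfl⟩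
  have := normal_subgroupOf_of_le_normalizer (sup_le (le_norm A) h3)
  have e := finrank_comm (P := A.subgroupOf (A ⊔ H)) (T := H.subgroupOf (A ⊔ H)) ρ (fun x hx => LinearMap.ext fun u =>
    c.inj ((hρ x u).trans (mul_inv_eq_iff_eq_mul.2 (mem_cent.1 (hc ?_) _ (c.mem u)).symm)))
    (by rwa [subOf_card le_sup_left, Ne, ZMod.natCast_eq_zero_iff])
    (Submodule.finrank_eq_zero.1 (Nat.pow_right_injective (Fact.out : p.Prime).two_le (by
      simpa [h0] using (h A le_sup_left).symm))) (semiReg_subOf reg _)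
  · rw [h H le_sup_right, ← pow_mul, mul_comm, ← subOf_card (le_sup_right : H ≤ A ⊔ H), ← e]
    refine (congrArg (fun X : Subgroup G => Nat.card X) (inf_of_le_left (cent_symm bot_le : V ≤ 𝐂(⊥)))).symm.trans
      ((h ⊥ bot_le).trans (congrArg (p ^ ·) ?_))
    exact (congrArg (fun X : Submodule _ _ => finrank (ZMod p) X) (eq_top_iff.2 fun v _ s hs => by
      rw [show s = 1 from Subtype.ext hs, map_one, End.one_apply])).trans (finrank_top _ _)
  · have := mem_map_of_mem (A ⊔ H).subtype hx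
    rwa [map_commutator, map_subgroupOf_eq_of_le le_sup_left] at this

end Cfsg.Lib.FH
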