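import Cfsg.Agent.Lib.FH.C
import Cfsg.Agent.Lib.BG.T01_Cyclic

/-!
# Frobenius groups of automorphisms with fixed-point-free kernel: the fixed points of the complement see the action

If `F H` acts on `V Q` (`V` abelian, `Q` a `q`-group of order prime to `|V|`, `C_V(F) = C_Q(F) = 1`), an element of `Q`
centralizing `C_V(H)` centralizes `V` (`Fr.key`).
-/

set_option autoImplicit false

namespace Cfsg.Lib.FH

open Subgroup Cfsg.Lib.BG Cfsg.Lib.Transfer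

universe u

section
variable {G : Type*} [Group G] {N F H V U W Q B E S X M Y : Subgroup G} {q : ℕ} {d x : G}

theorem split_cent (hW : W ≤ 𝐍(U)) (hd : U ⊓ W = ⊥) (h1 : Y ≤ 𝐍(U)) (h2 : Y ≤ 𝐍(W)) :
    (U ⊔ W) ⊓ 𝐂(Y) ≤ (U ⊓ 𝐂(Y)) ⊔ (W ⊓ 𝐂(Y)) := by
  rintro x ⟨hx, hc⟩
  obtain ⟨a, ha, b, hb, rfl⟩ := (mem_sup_left_norm hW).1 hx
  have key : ∀ y ∈ Y, y * a * y⁻¹ = a ∧ y * b * y⁻¹ = b := fun y hy => by
    have e := mem_cent.1 hc y hy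
    have e1 : a⁻¹ * (y * a * y⁻¹) = b * (y * b * y⁻¹)⁻¹ := by
      rw [show y * a * y⁻¹ = y * (a * b) * b⁻¹ * y⁻¹ by group, e]; group
    have e2 : a⁻¹ * (y * a * y⁻¹) ∈ U ⊓ W := mem_inf.2 ⟨mul_mem (inv_mem ha) (conj_mem_of_norm (h1 hy) ha),
      e1 ▸ mul_mem hb (inv_mem (conj_mem_of_norm (h2 hy) hb))⟩
    rw [hd, mem_bot] at e2
    rw [e2] at e1
    exact ⟨(inv_mul_eq_one.1 e2).symm, (mul_inv_eq_one.1 e1.symm).symm⟩
  exact mul_mem_sup ⟨ha, mem_cent.2 fun y hy => mul_inv_eq_iff_eq_mul.1 (key y hy).1⟩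
    ⟨hb, mem_cent.2 fun y hy => mul_inv_eq_iff_eq_mul.1 (key y hy).2⟩

variable [Finite G]

theorem Fr.quo_cent' (h : Fr (M ⊓ X) F H) (hX : X ≤ 𝐍(M)) (h1 : H ≤ 𝐍(M)) (h2 : H ≤ 𝐍(X)) :
    BG.quo X M ⊓ 𝐂(BG.quo H M) = BG.quo (X ⊓ 𝐂(H)) M := by
  refine le_antisymm ?_ ((quo_inf_le _ _ _).trans (inf_le_inf_left _ (cent_symm (BG.quo_cent (cent_symm le_rfl) M))))
  rintro _ ⟨⟨g, hg, rfl⟩, hc⟩
  obtain ⟨v, hv, e⟩ := h.cover (norm_inf hX (le_norm X) hg) fun x hx => by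
    have := mem_cent.1 hc _ ⟨⟨x, h1 hx⟩, hx, rfl⟩
    rw [← map_mul, ← map_mul, eq_comm, ← inv_mul_eq_one, ← map_inv, ← map_mul] at this
    have h5 : ((g : G) * x)⁻¹ * (x * g) ∈ M := mem_subgroupOf.1 ((QuotientGroup.eq_one_iff _).1 this)
    have hg' : (g : G) ∈ X := hg
    refine mem_inf.2 ⟨?_, ?_⟩
    · convert conj_mem_of_norm (h1 hx) h5 using 1
      rw [coe_subtype]; group
    · convert mul_mem (inv_mem hg') (conj_mem_of_norm (h2 hx) hg') using 1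
      rw [coe_subtype]; group
  refine ⟨g * ⟨v, le_norm M hv.1⟩, mem_inf.2 ⟨mul_mem hg hv.2, e⟩, ?_⟩
  rw [map_mul, show qhom M ⟨v, le_norm M hv.1⟩ = 1 from (QuotientGroup.eq_one_iff _).2 hv.1, mul_one]

theorem mem_of_conj_mem (hF : H ≤ 𝐍(F)) (reg : SemiReg F H) {h n : G} (h1 : h ∈ H) (h2 : h ≠ 1) (h3 : h ∈ S)
    (hn : n ∈ F) (h4 : n⁻¹ * h * n ∈ S) : n ∈ S := by
  obtain ⟨c, hc, m, hm, rfl⟩ := Coprime.exists_centralizer_mul_of_conj_mem (B := zpowers h) (S := S)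
    ((zpowers_le.2 h1).trans hF) (coprime_mono (regular_norm_coprime hF reg).symm (zpowers_le.2 h1) le_rfl)
    (Or.inl (abelian_sol inferInstance)) (zpowers_le.2 h3) hn fun b hb =>
      mem_conj.1 ((zpowers_le.2 (mem_conj.2 h4) : zpowers h ≤ _ ⋆ S) hb)
  rw [cent_zpowers, reg h h1 h2, mem_bot] at hc
  rw [hc, one_mul]
  exact hm.2

/-- In a permutation action of the Frobenius group `F H` two points of an `F`-orbit with non-trivial stabilizers in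
`H` coincide. -/
theorem mem_of_two (hF : H ≤ 𝐍(F)) (reg : SemiReg F H) (hs : Group.IsSolvable F) (h1 : H ⊓ S ≠ ⊥) {f : G}
    (hf : f ∈ F) (h2 : H ⊓ f ⋆ S ≠ ⊥) : f ∈ S := by
  obtain ⟨h, hh, h1⟩ := exists_ne_one h1
  obtain ⟨k, hk, k1⟩ := exists_ne_one h2
  have hk2 := mem_conj.1 hk.2
  obtain ⟨n, hn, e⟩ := Coprime.exists_conj_mem_of_subset_mul (B := H ⊓ (F ⊔ (S ⊓ 𝐍(F)))) (S := S)
    (inf_le_left.trans hF) (coprime_mono (regular_norm_coprime hF reg).symm inf_le_left le_rfl) (Or.inr hs)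
    fun b hb => by
      obtain ⟨a, ha, s, hs, rfl⟩ := (mem_sup_left_norm inf_le_right).1 hb.2
      exact ⟨a⁻¹, inv_mem ha, by simpa using hs.1⟩
  have hnS := mem_of_conj_mem hF reg hh.1 h1 hh.2 hn (e h ⟨hh.1, mem_sup_right ⟨hh.2, hF hh.1⟩⟩)
  have h3 := e k ⟨hk.1, by
    rw [show k = (k * f⁻¹ * k⁻¹)⁻¹⁻¹ * f * (f⁻¹ * (k * f * k⁻¹) * k) by group, show f⁻¹ * (k * f * k⁻¹) * k =
      f⁻¹ * k * f by group]
    exact mul_mem_sup (mul_mem (inv_mem (inv_mem (conj_mem_of_norm (hF hk.1) (inv_mem hf)))) hf)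
      ⟨hk2, mul_mem (mul_mem (le_norm F (inv_mem hf)) (hF hk.1)) (le_norm F hf)⟩⟩
  refine mem_of_conj_mem hF reg hk.1 k1 ?_ hf hk2
  convert mul_mem (mul_mem hnS h3) (inv_mem hnS) using 1
  group

/-- An element centralizing `E` and `C_V(H)` centralizes the fixed points of the stabilizer on every component. -/
theorem comp_cent (hq : q.Prime) (hV : IsMulCommutative V) (hE : IsMulCommutative E) (h1 : E ≤ 𝐍(V))
    (hc : (Nat.card E).Coprime (Nat.card V)) (h0 : V ⊓ 𝐂(E) = ⊥) (hB : B ≤ E) (hi : B.relIndex E = q)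
    (y1 : H ≤ 𝐍(V)) (y2 : H ≤ 𝐍(E)) (d1 : d ∈ 𝐍(V)) (d2 : d ∈ 𝐂(E)) (hd : V ⊓ 𝐂(H) ≤ 𝐂[d]) :
    V ⊓ 𝐂(B) ⊓ 𝐂(H ⊓ 𝐍(B)) ≤ 𝐂[d] := fun w hw => by
  have dp := (coprime_abelian_cent_dprod (hB.trans h1) (coprime_mono hc hB le_rfl) hV).inf
  obtain ⟨x, h3, h4⟩ := comp_fix hq hV hE h1 hc h0 hB hi y1 y2 hw
  have dB : zpowers d ≤ 𝐍(B) := zpowers_le.2 (cent_le_norm B (cent_anti hB d2))
  have dV : zpowers d ≤ 𝐍(V) := zpowers_le.2 d1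
  have h5 : d * w * d⁻¹ * w⁻¹ ∈ ⁅V, B⁆ ⊓ (V ⊓ 𝐂(B)) := by
    refine mem_inf.2 ⟨?_, mul_mem (conj_mem_of_norm (norm_inf dV (norm_cent dB) (mem_zpowers d)) hw.1) (inv_mem hw.1)⟩
    have h6 := mul_mem (conj_mem_of_norm (left_norm_comm V B h3.1)
      (inv_mem (conj_mem_of_norm (norm_comm dV dB (mem_zpowers d)) h4)))
      (conj_mem_of_norm (left_norm_comm V B hw.1.1) h4)
    have h7 := mem_cent1.1 (hd h3)
    convert h6 using 1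
    rw [show x * (d * (w⁻¹ * x) * d⁻¹)⁻¹ * x⁻¹ = (x * d) * x⁻¹ * w * d⁻¹ * x⁻¹ by group, h7]
    group
  rw [dp, mem_bot, mul_inv_eq_one, mul_inv_eq_iff_eq_mul] at h5
  exact mem_cent1.2 h5.symm

theorem key_step [hq : Fact q.Prime] (h : Fr V F H) (hQ : FP Q F) (hH : H ≤ 𝐍(Q)) (h1 : Q ≤ 𝐍(V))
    (hV : IsMulCommutative V) (hp : IsPGroup q Q) (hc : (Nat.card Q).Coprime (Nat.card V)) (hK : Q ⊓ 𝐂(V) = ⊥)
    (hd : d ∈ Q) (hd' : V ⊓ 𝐂(H) ≤ 𝐂[d])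
    (ih : ∀ U L : Subgroup G, U < V → L ≤ H → Q ≤ 𝐍(U) → F ≤ 𝐍(U) → L ≤ 𝐍(U) → U ⊓ 𝐂(L) ≤ 𝐂[d] → U ≤ 𝐂[d]) :
    V ≤ 𝐂[d] := by
  by_contra hn
  have Q1 : Q ≠ ⊥ := fun e => hn (by rw [e, mem_bot] at hd; rw [hd]; exact fun x _ => mem_cent1.2 (by simp))
  have E1 := Ohm1_center_ne_bot hp Q1
  have hE := elab_Ohm1_center q Q
  have EZ : omegaOne q 𝐙(Q) ≤ 𝐙(Q) := Ohm1_le _ _
  have Emax : ∀ X : Subgroup G, X ≤ 𝐙(Q) → omegaOne q X ≤ omegaOne q 𝐙(Q) := fun X e => Ohm1_mono e q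
  have EF : F ≤ 𝐍(omegaOne q 𝐙(Q)) := norm_Ohm1 (norm_center hQ.norm) q
  have EH : H ≤ 𝐍(omegaOne q 𝐙(Q)) := norm_Ohm1 (norm_center hH) q
  generalize omegaOne q 𝐙(Q) = E at *
  have EQ : E ≤ Q := EZ.trans inf_le_left
  have QE : Q ≤ 𝐂(E) := cent_symm (EZ.trans inf_le_right)
  have EV := EQ.trans h1
  have cE := coprime_mono hc EQ le_rfl
  have h0 : V ⊓ 𝐂(E) = ⊥ := by
    by_contra e
    have dp := coprime_abelian_cent_dprod EV cE hV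
    refine hn (dp.sup ▸ sup_le (ih _ H (lt_of_le_of_ne dp.left_le fun e' => e ?_) le_rfl
      (norm_comm h1 (norm_of_cent QE)) (norm_comm h.norm EF) (norm_comm h.hN EH)
      ((inf_le_inf_right _ dp.left_le).trans hd'))
      (ih _ H (lt_of_le_of_ne inf_le_left fun e' => E1 ?_) le_rfl (norm_inf h1 (norm_cent (norm_of_cent QE)))
      (norm_inf h.norm (norm_cent EF)) (norm_inf h.hN (norm_cent EH)) ((inf_le_inf_right _ inf_le_left).trans hd')))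
    · exact eq_bot_mono dp.inf (le_inf (inf_le_left.trans e'.ge) le_rfl)
    · exact eq_bot_mono hK (le_inf EQ (cent_symm (inf_eq_left.1 e')))
  obtain ⟨B, hB, hi, hW⟩ : ∃ B : Subgroup G, B ≤ E ∧ B.relIndex E = q ∧ ¬ V ⊓ 𝐂(B) ≤ 𝐂[d] := by
    by_contra! e
    exact hn (Coprime.le_of_forall_hyperplane' hE E1 EV cE e)
  have P2 : ∀ B : Subgroup G, B ≤ E → B.relIndex E = q → V ⊓ 𝐂(B) ⊓ 𝐂(H ⊓ 𝐍(B)) ≤ 𝐂[d] := fun B h2 h3 =>
    comp_cent hq.out hV hE.1 EV cE h0 h2 h3 h.hN EH (h1 hd) (QE hd) hd'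
  have P3 : ∀ B : Subgroup G, B ≤ E → B.relIndex E = q → H ⊓ 𝐍(B) = ⊥ → V ⊓ 𝐂(B) ≤ 𝐂[d] := fun B h2 h3 h4 => by
    have := P2 B h2 h3
    rwa [h4, cent_bot, inf_top_eq] at this
  have H1 : H ⊓ 𝐍(B) ≠ ⊥ := fun e => hW (P3 B hB hi e)
  have cB : ∀ f ∈ F, f ⋆ B ≤ E ∧ (f ⋆ B).relIndex E = q := fun f hf =>
    ⟨conj_le_of_norm hB (EF hf), by rw [← hi, ← relIndex_conj f B E, conj_eq_of_norm (EF hf)]⟩
  let T : Set (Subgroup G) := {C | ∃ f ∈ F, f ∉ 𝐍(B) ∧ f ⋆ B = C}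
  have dT : wcomp V T ≤ 𝐂[d] := wcomp_le_of fun C ⟨f, hf, f1, e⟩ => e ▸ P3 _ (cB f hf).1 (cB f hf).2 (by
    by_contra e'
    exact f1 (mem_of_two h.hF h.reg (nil_sol h.nil) H1 hf (by rwa [conj_normalizer])))
  have TE : ∀ C ∈ T, C ≤ E := fun C ⟨f, hf, _, e⟩ => e ▸ (cB f hf).1
  have dis : wcomp V T ⊓ (V ⊓ 𝐂(B)) = ⊥ := eq_bot_mono (BG.wcomp_inf_cent (S := T) hV hE EV cE h0 hB fun C ⟨f, hf, f1, e⟩ =>
    e ▸ sup_eq_of_relIndex_prime_of_ne hq.out (cB f hf).1 (cB f hf).2 hB hi fun e' => f1 (norm_of_conj_eq e'))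
    (inf_le_inf_left _ inf_le_right)
  have nT : (F ⊓ 𝐍(B)) ⊔ (H ⊓ 𝐍(B)) ≤ 𝐍(wcomp V T) := sup_le
    (norm_wcomp (inf_le_left.trans h.norm) fun a ha C ⟨f, hf, f1, e⟩ => ⟨a * f, mul_mem ha.1 hf,
      fun e' => f1 (by simpa using mul_mem (inv_mem (mem_inf.1 ha).2) e'), by rw [← e, conj_conj]⟩)
    (norm_wcomp (inf_le_left.trans h.hN) fun a ha C ⟨f, hf, f1, e⟩ => ⟨a * f * a⁻¹, conj_mem_of_norm (h.hF ha.1) hf,
      fun e' => f1 (by simpa [mul_assoc] using mul_mem (mul_mem (inv_mem (mem_inf.1 ha).2) e') (mem_inf.1 ha).2), by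
        rw [← e, conj_conj, ← conj_conj (a * f), conj_eq_of_norm (inv_mem (mem_inf.1 ha).2)]⟩)
  have nW : (F ⊓ 𝐍(B)) ⊔ (H ⊓ 𝐍(B)) ≤ 𝐍(V ⊓ 𝐂(B)) := sup_le
    (norm_inf (inf_le_left.trans h.norm) (norm_cent inf_le_right))
    (norm_inf (inf_le_left.trans h.hN) (norm_cent inf_le_right))
  have QT : Q ≤ 𝐍(wcomp V T) := norm_wcomp h1 fun a ha C hC => by
    rwa [conj_eq_of_cent (cent_anti (TE C hC) (QE ha))]
  have QW : Q ≤ 𝐍(V ⊓ 𝐂(B)) := norm_inf h1 (norm_cent (norm_of_cent (QE.trans (cent_anti hB))))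
  have UV : wcomp V T ⊔ (V ⊓ 𝐂(B)) = V := by
    have le : wcomp V T ⊔ (V ⊓ 𝐂(B)) ≤ V := sup_le (wcomp_le V T) inf_le_left
    by_contra e
    refine hW (le_sup_right.trans (ih _ (H ⊓ 𝐍(B)) (lt_of_le_of_ne le e) inf_le_left (norm_sup QT QW) ?_
      (le_sup_right.trans (norm_sup nT nW)) ?_))
    · intro a ha
      refine mem_normalizer_of_conj_le ?_
      have k : ∀ f ∈ F, V ⊓ 𝐂(f ⋆ B) ≤ wcomp V T ⊔ (V ⊓ 𝐂(B)) := fun f hf => by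
        by_cases f1 : f ∈ 𝐍(B)
        · rw [conj_eq_of_norm f1]; exact le_sup_right
        · exact (le_wcomp V (⟨f, hf, f1, rfl⟩ : f ⋆ B ∈ T)).trans le_sup_left
      rw [conj_sup, conj_inf_cent (h.norm ha)]
      refine sup_le (conj_le_iff_le_inv_conj.2 (wcomp_le_of fun C ⟨f, hf, _, e⟩ => conj_le_iff_le_inv_conj.1 ?_)) (k a ha)
      rw [conj_inf_cent (h.norm ha), ← e, conj_conj]
      exact k _ (mul_mem ha hf)
    · exact (split_cent (inf_le_left.trans (abelian_norm hV (wcomp_le V T))) dis (le_sup_right.trans nT)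
        (le_sup_right.trans nW)).trans (sup_le (inf_le_left.trans dT) (P2 B hB hi))
  have n0 : Nml (Q ⊓ 𝐂(wcomp V T)) Q := Nml.cent QT
  have z1 : omegaOne q (Q ⊓ 𝐂(wcomp V T) ⊓ 𝐂(Q)) ≠ ⊥ := Ohm1_ne_bot (pgroup_of_le hp (inf_le_left.trans inf_le_left))
    (nil_meet_center (pgroup_nil hp) n0.le n0.norm (ne_bot_of_mem ⟨hd, le_cent1_iff.1 dT⟩ fun e => hn (by
      rw [e]; exact fun x _ => mem_cent1.2 (by simp))))
  have z2 : E ⊓ 𝐂(wcomp V T) ≠ ⊥ := ne_bot_mono z1 (le_inf (Emax _ (inf_le_inf_right _ inf_le_left))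
    ((Ohm1_le _ _).trans (inf_le_left.trans inf_le_right)))
  have z3 : E ⊓ 𝐂(wcomp V T) ⊓ 𝐂(V ⊓ 𝐂(B)) = ⊥ := eq_bot_mono hK (by
    rw [inf_assoc, ← cent_sup, UV]; exact inf_le_inf_right _ EQ)
  have z4 : IsCyclic ↥(E ⊓ 𝐂(wcomp V T)) := by
    have e1 : B ⊓ (E ⊓ 𝐂(wcomp V T)) = ⊥ := eq_bot_mono z3 (le_inf inf_le_right
      (inf_le_left.trans (cent_symm inf_le_right)))
    have e2 := relIndex_dvd_of_norm (H := B) (inf_le_left : E ⊓ 𝐂(wcomp V T) ≤ E) (abelian_norm hE.1 hB)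
    rw [hi, ← inf_relIndex_right, e1, relIndex_bot_left, Nat.dvd_prime hq.out] at e2
    exact cyclic_of_prime ((e2.resolve_left (card_ne_one z2)).symm ▸ hq.out)
  have z5 : F ⊓ 𝐍(B) ≤ 𝐂(E ⊓ 𝐂(wcomp V T)) := by
    have e1 := coprime_comm_eq_of_cent_bot (A := H ⊓ 𝐍(B)) (K := F ⊓ 𝐍(B))
      (norm_inf (inf_le_left.trans h.hF) (norm_norm inf_le_right))
      (coprime_mono (regular_norm_coprime h.hF h.reg).symm inf_le_left inf_le_left)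
      (Or.inr (sol_of_le (nil_sol h.nil) inf_le_left))
      (eq_bot_mono (h.reg.cent inf_le_left H1) (inf_le_inf_right _ inf_le_left))
    exact e1.ge.trans ((comm_le_der le_sup_left le_sup_right).trans (der1_cent_cyclic z4 (norm_inf
      (sup_le (inf_le_left.trans EF) (inf_le_left.trans EH)) (norm_cent nT))))
  obtain ⟨z, hz, z6⟩ := exists_ne_one z2
  obtain ⟨x, h3, h4⟩ := orbit_prod' (U := 𝐂(V ⊓ 𝐂(B))) hE.1 EF hz.1 fun y hy => by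
    by_cases e : y ∈ 𝐍(B)
    · exact Or.inl (mul_inv_eq_iff_eq_mul.2 (mem_cent.1 (z5 ⟨hy, e⟩) z hz).symm)
    · have e1 := cent_anti (le_wcomp V (⟨y⁻¹, inv_mem hy, fun e' => e (inv_mem_iff.1 e'), rfl⟩ : y⁻¹ ⋆ B ∈ T)) hz.2
      rw [← conj_inf_cent (h.norm (inv_mem hy)), ← conj_centralizer, mem_conj, inv_inv] at e1
      exact Or.inr e1
  rw [eq_bot_mono hQ.fpf (inf_le_inf_right _ EQ), mem_bot] at h3
  rw [h3, mul_one, inv_mem_iff] at h4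
  exact z6 (mem_bot.1 (z3 ▸ ⟨hz, h4⟩))

end

theorem key_aux {q : ℕ} [Fact q.Prime] (n : ℕ) : ∀ (G : Type u) [Group G] [Finite G] (V Q F H : Subgroup G) (d : G),
    Nat.card V + Nat.card Q = n → Fr V F H → FP Q F → H ≤ 𝐍(Q) → Q ≤ 𝐍(V) → IsMulCommutative V → IsPGroup q Q →
    (Nat.card Q).Coprime (Nat.card V) → d ∈ Q → V ⊓ 𝐂(H) ≤ 𝐂[d] → V ≤ 𝐂[d] := by
  induction n using Nat.strong_induction_on with
  | _ n ih =>
  intro G _ _ V Q F H d hn h hQ hH h1 hV hp hc hd hd'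
  subst hn
  by_cases hK : Q ⊓ 𝐂(V) = ⊥
  · exact key_step h hQ hH h1 hV hp hc hK hd hd' fun U L u1 u2 u3 u4 u5 u6 =>
      ih _ (by have := card_lt_of_lt u1; omega) G U Q F L d rfl ⟨h.toFP.sub u1.le u4, u5, u2.trans h.hF,
        fun x hx => h.reg x (u2 hx)⟩ hQ (u2.trans hH) u3 (abelian_of_le hV u1.le) hp (coprime_mono hc le_rfl u1.le) hd u6
  have nQ : Nml (Q ⊓ 𝐂(V)) Q := Nml.cent h1
  have nF : F ≤ 𝐍(Q ⊓ 𝐂(V)) := norm_inf hQ.norm (norm_cent h.norm)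
  have nH : H ≤ 𝐍(Q ⊓ 𝐂(V)) := norm_inf hH (norm_cent h.hN)
  have nV : V ≤ 𝐍(Q ⊓ 𝐂(V)) := norm_of_cent (cent_symm inf_le_right)
  have dis : Q ⊓ 𝐂(V) ⊓ V = ⊥ := eq_bot_mono (disjoint_of_coprime hc) (inf_le_inf_right _ inf_le_left)
  have h2 : Fr ((Q ⊓ 𝐂(V)) ⊔ V) F H := ⟨⟨norm_sup nF h.norm, h.nil, eq_bot_mono (by
    rw [h.fpf, eq_bot_mono hQ.fpf (inf_le_inf_right _ inf_le_left), sup_bot_eq]) (split_cent nV dis nF h.norm)⟩,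
    norm_sup nH h.hN, h.hF, h.reg⟩
  generalize Q ⊓ 𝐂(V) = K at *
  have h3 := h2.quo ⟨le_sup_left, sup_le_norm_left nV⟩ nF
  rw [quo_sup_self nV] at h3
  have h4 := ih _ (by
    have h4 := card_quo_mul nQ
    have h5 := Nat.le_of_dvd Nat.card_pos (card_quo_dvd V K)
    have h6 : 1 < Nat.card K := (one_lt_card_iff_ne_bot K).2 hK
    have h7 : 0 < Nat.card (quo Q K) := Nat.card_pos
    nlinarith) _ (quo V K) (quo Q K) (quo F K) (quo H K) (qhom K ⟨d, nQ.norm hd⟩) rfl h3 (hQ.quo nQ nF) (quo_norm hH K)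
    (quo_norm h1 K) (abelian_quo hV K) (pgroup_quo hp K) (coprime_quo hc K) ⟨⟨d, nQ.norm hd⟩, hd, rfl⟩ (by
      rw [(h.sub inf_le_right (norm_inf nF h.norm) (norm_inf nH h.hN)).quo_cent' nV nH h.hN]
      rintro _ ⟨v, hv, rfl⟩
      exact mem_cent1.2 (by rw [← map_mul, ← map_mul]; exact congrArg _ (Subtype.ext (mem_cent1.1 (hd' hv)))))
  intro v hv
  have h5 := mem_cent1.1 (h4 ⟨⟨v, nV hv⟩, hv, rfl⟩)
  rw [← map_mul, ← map_mul, ← mul_inv_eq_one, ← map_inv, ← map_mul] at h5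
  have h6 : v * d * (d * v)⁻¹ ∈ K ⊓ V := mem_inf.2 ⟨mem_subgroupOf.1 ((QuotientGroup.eq_one_iff _).1 h5), by
    convert mul_mem hv (conj_mem_of_norm (h1 hd) (inv_mem hv)) using 1
    group⟩
  rw [dis, mem_bot, mul_inv_eq_one] at h6
  exact mem_cent1.2 h6

/-- An element of `Q` centralizing `C_V(H)` centralizes `V`. -/
theorem Fr.key {G : Type*} [Group G] [Finite G] {V Q F H : Subgroup G} {q : ℕ} [Fact q.Prime] {d : G} (h : Fr V F H)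
    (hQ : FP Q F) (hH : H ≤ 𝐍(Q)) (h1 : Q ≤ 𝐍(V)) (hV : IsMulCommutative V) (hp : IsPGroup q Q)
    (hc : (Nat.card Q).Coprime (Nat.card V)) (hd : d ∈ Q) (hd' : V ⊓ 𝐂(H) ≤ 𝐂[d]) : V ≤ 𝐂[d] :=
  key_aux _ G V Q F H d rfl h hQ hH h1 hV hp hc hd hd'

end Cfsg.Lib.FH
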